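import Mathlib

/-! `A_(g) ≅ B / (g - 1)` for a degree-one element `g` of a Veronese subring `B` of `A`. -/

set_option autoImplicit false
set_option linter.style.haveILetI false
set_option backward.isDefEq.respectTransparency false
universe u
open DirectSum

noncomputable section

namespace Groth.Agent.AwayQuot

variable {R A B : Type u} [CommRing R] [CommRing A] [Algebra R A] (𝒜 : ℕ → Submodule R A) [GradedAlgebra 𝒜]
  [CommRing B] [Algebra R B] (ℬ : ℕ → Submodule R B) [GradedAlgebra ℬ] (d : ℕ) (φ : B →ₐ[R] A)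
  (hdeg : ∀ n : ℕ, Submodule.map φ.toLinearMap (ℬ n) = 𝒜 (n * d)) {f : B} (hf : f ∈ ℬ 1)

include hdeg in
lemma map_mem {n : ℕ} {x : B} (hx : x ∈ ℬ n) : φ x ∈ 𝒜 (n * d) :=
  (hdeg n).le (Submodule.mem_map_of_mem hx)

include hdeg hf in
lemma map_mem_one : φ f ∈ 𝒜 d := by simpa using map_mem 𝒜 ℬ d φ hdeg hf

/-- degree `n` part of `B → A_(φ f)`. -/
def part (n : ℕ) : ℬ n →+ HomogeneousLocalization.Away 𝒜 (φ f) where
  toFun x := HomogeneousLocalization.Away.mk 𝒜 (map_mem_one 𝒜 ℬ d φ hdeg hf) n (φ x)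
    (map_mem 𝒜 ℬ d φ hdeg x.2)
  map_zero' := by ext; simp [Localization.mk_zero]
  map_add' x y := by ext; simp [Localization.add_mk_self]

/-- `B → A_(φ f)`, `x ↦ φ x / (φ f) ^ n` on degree `n`. -/
def σ : B →+* HomogeneousLocalization.Away 𝒜 (φ f) :=
  (DirectSum.toSemiring (part 𝒜 ℬ d φ hdeg hf)
      (by
        ext
        simp [part, GradedMonoid.GOne.one])
      (fun {i j} a b => by
        ext
        simp [part, GradedMonoid.GMul.mul, Localization.mk_mul, pow_add])).comp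
    (DirectSum.decomposeRingEquiv ℬ).toRingHom

lemma σ_apply {n : ℕ} {x : B} (hx : x ∈ ℬ n) :
    (σ 𝒜 ℬ d φ hdeg hf x).val = Localization.mk (φ x) (⟨φ f ^ n, n, rfl⟩ : Submonoid.powers (φ f)) := by
  have h : DirectSum.decompose ℬ x = DirectSum.of (fun i => ℬ i) n ⟨x, hx⟩ :=
    DirectSum.decompose_of_mem ℬ hx
  simp only [σ, RingHom.comp_apply]
  change HomogeneousLocalization.val (DirectSum.toSemiring _ _ _ (DirectSum.decompose ℬ x)) = _
  rw [h, DirectSum.toSemiring_of]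
  rfl

lemma span_le_ker : Ideal.span {f - 1} ≤ RingHom.ker (σ 𝒜 ℬ d φ hdeg hf) := by
  rw [Ideal.span_singleton_le_iff_mem, RingHom.mem_ker, map_sub, map_one, sub_eq_zero]
  ext
  rw [σ_apply 𝒜 ℬ d φ hdeg hf hf, HomogeneousLocalization.val_one]
  simp only [pow_one]
  exact Localization.mk_self (⟨φ f, Submonoid.mem_powers _⟩ : Submonoid.powers (φ f))

lemma σ_surjective : Function.Surjective (σ 𝒜 ℬ d φ hdeg hf) := by
  intro a
  obtain ⟨n, a, ha, rfl⟩ := HomogeneousLocalization.Away.mk_surjective 𝒜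
    (map_mem_one 𝒜 ℬ d φ hdeg hf) a
  obtain ⟨x, hx, rfl⟩ := (hdeg n).ge (by simpa using ha)
  refine ⟨x, ?_⟩
  ext
  rw [σ_apply 𝒜 ℬ d φ hdeg hf hx]
  rfl

variable (hφ : Function.Injective φ)
include hφ

lemma ker_σ : RingHom.ker (σ 𝒜 ℬ d φ hdeg hf) = Ideal.span {f - 1} := by
  classical
  refine le_antisymm (fun x hx => ?_) (span_le_ker 𝒜 ℬ d φ hdeg hf)
  set S := (DirectSum.decompose ℬ x).support
  set N := S.sup id
  set y := ∑ i ∈ S, (DirectSum.decompose ℬ x i : B) * f ^ (N - i)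
  have hle : ∀ i ∈ S, i ≤ N := fun i hi => Finset.le_sup (f := id) hi
  have hy : y ∈ ℬ N := Submodule.sum_mem _ fun i hi => by
    have h := SetLike.mul_mem_graded (A := ℬ) (SetLike.coe_mem (DirectSum.decompose ℬ x i))
      (SetLike.pow_mem_graded (N - i) hf)
    simpa [Nat.add_sub_cancel' (hle i hi)] using h
  have hone : Ideal.Quotient.mk (Ideal.span {f - 1}) f = 1 := by
    rw [← map_one (Ideal.Quotient.mk (Ideal.span {f - 1})), Ideal.Quotient.eq]
    exact Ideal.mem_span_singleton_self _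
  have hxy : x - y ∈ Ideal.span {f - 1} := by
    rw [← Ideal.Quotient.eq]
    conv_lhs => rw [← DirectSum.sum_support_decompose ℬ x]
    simp only [y, map_sum, map_mul, map_pow, hone, one_pow, mul_one]
    rfl
  have hy0 : σ 𝒜 ℬ d φ hdeg hf y = 0 := by
    have h := span_le_ker 𝒜 ℬ d φ hdeg hf hxy
    rw [RingHom.mem_ker, map_sub, RingHom.mem_ker.1 hx, zero_sub, neg_eq_zero] at h
    exact h
  have hv := congrArg HomogeneousLocalization.val hy0
  rw [σ_apply 𝒜 ℬ d φ hdeg hf hy, HomogeneousLocalization.val_zero,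
    ← Localization.mk_zero (1 : Submonoid.powers (φ f)), Localization.mk_eq_mk_iff,
    Localization.r_iff_exists] at hv
  obtain ⟨⟨_, k, rfl⟩, hk⟩ := hv
  simp only [OneMemClass.coe_one, one_mul, mul_zero] at hk
  have hk' : f ^ k * y = 0 := hφ (by rw [map_mul, map_pow, map_zero]; exact hk)
  rw [← Ideal.Quotient.eq_zero_iff_mem]
  calc Ideal.Quotient.mk _ x = Ideal.Quotient.mk (Ideal.span {f - 1}) y := Ideal.Quotient.eq.2 hxy
    _ = Ideal.Quotient.mk (Ideal.span {f - 1}) (f ^ k * y) := by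
      rw [map_mul, map_pow, hone, one_pow, one_mul]
    _ = 0 := by rw [hk', map_zero]

/-- `B / (f - 1) ≅ A_(φ f)`. -/
def quotEquiv : B ⧸ Ideal.span {f - 1} ≃+* HomogeneousLocalization.Away 𝒜 (φ f) :=
  (Ideal.quotEquivOfEq (ker_σ 𝒜 ℬ d φ hdeg hf hφ).symm).trans
    (RingHom.quotientKerEquivOfSurjective (σ_surjective 𝒜 ℬ d φ hdeg hf))

lemma quotEquiv_mk (x : B) :
    quotEquiv 𝒜 ℬ d φ hdeg hf hφ (Ideal.Quotient.mk _ x) = σ 𝒜 ℬ d φ hdeg hf x := rfl

end Groth.Agent.AwayQuot
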